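import Cfsg.Agent.S1012

/-!
# Groups that are a four-group by `S₃`, times an odd centre
-/

namespace CfsgLib.RootOnSingular

open Cfsg

set_option autoImplicit false
set_option linter.style.haveILetI false

universe u

variable {G : Type u} [Group G] [Finite G] (P : Subgroup G)

theorem four (hcard : Nat.card P = 4) (hexp : ∀ y ∈ P, y * y = 1) {y w v : G} (hy : y ∈ P)
    (hw : w ∈ P) (hv : v ∈ P) (hy1 : y ≠ 1) (hw1 : w ≠ 1) (hwy : w ≠ y) :
    v = 1 ∨ v = y ∨ v = w ∨ v = y * w := by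
  classical
  haveI := Fintype.ofFinite P
  have hyw1 : y * w ≠ 1 := fun e => hwy (mul_left_cancel (e.trans (hexp y hy).symm))
  have h4 : ({1, ⟨y, hy⟩, ⟨w, hw⟩, ⟨y * w, mul_mem hy hw⟩} : Finset P) = Finset.univ := by
    refine Finset.eq_univ_of_card _ ?_
    rw [← Nat.card_eq_fintype_card, hcard, Finset.card_insert_of_notMem, Finset.card_insert_of_notMem,
      Finset.card_insert_of_notMem, Finset.card_singleton]
    · simp [Subtype.ext_iff, hy1]
    · simp [Subtype.ext_iff, hwy.symm, hw1]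
    · simp [Subtype.ext_iff, Ne.symm hy1, Ne.symm hw1, Ne.symm hyw1]
  simpa [Subtype.ext_iff] using h4.ge (Finset.mem_univ (⟨v, hv⟩ : P))

variable [hPn : P.Normal] (hcard : Nat.card P = 4) (hexp : ∀ y ∈ P, y * y = 1)

include hcard hexp

/-- An element fixing a nontrivial point induces an involution. -/
theorem sq_mem_centralizer_of_fixed {g y : G} (hy : y ∈ P) (hy1 : y ≠ 1) (hfix : g * y = y * g) :
    g ^ 2 ∈ Subgroup.centralizer (P : Set G) := by
  rw [Subgroup.mem_centralizer_iff]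
  intro v hv
  suffices h : g * (g * v * g⁻¹) * g⁻¹ = v by
    calc v * g ^ 2 = g * (g * v * g⁻¹) * g⁻¹ * g ^ 2 := by rw [h]
      _ = g ^ 2 * v := by rw [sq]; group
  have hgy : g * y * g⁻¹ = y := by rw [hfix]; group
  by_cases hvf : g * v * g⁻¹ = v
  · rw [hvf, hvf]
  have hv1 : v ≠ 1 := fun e => hvf (by rw [e]; group)
  have hvy : v ≠ y := fun e => hvf (by rw [e, hgy])
  rcases four P hcard hexp hy hv (hPn.conj_mem v hv g) hy1 hv1 hvy with e | e | e | e
  · exact absurd (conj_eq_one_iff.1 e) hv1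
  · refine absurd (mul_left_cancel (mul_right_cancel (e.trans hgy.symm))) hvy
  · exact absurd e hvf
  · rw [e, show g * (y * v) * g⁻¹ = (g * y * g⁻¹) * (g * v * g⁻¹) by group, hgy, e, ← mul_assoc,
      hexp y hy, one_mul]

/-- An element of order three on the four-group fixes no nontrivial point. -/
theorem eq_one_of_fixed {g y : G} (hg : g ∉ Subgroup.centralizer (P : Set G))
    (hg3 : g ^ 3 ∈ Subgroup.centralizer (P : Set G)) (hy : y ∈ P) (hfix : g * y = y * g) : y = 1 := by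
  by_contra hy1
  refine hg ?_
  have h2 := sq_mem_centralizer_of_fixed P hcard hexp hy hy1 hfix
  have : g = (g ^ 2)⁻¹ * g ^ 3 := by group
  rw [this]
  exact mul_mem (inv_mem h2) hg3

theorem cube_mul {g y : G} (hg : g ∉ Subgroup.centralizer (P : Set G))
    (hg3 : g ^ 3 ∈ Subgroup.centralizer (P : Set G)) (hy : y ∈ P) : (y * g) ^ 3 = g ^ 3 := by
  set a := g * y * g⁻¹ with ha
  set b := g * a * g⁻¹ with hb
  have haP : a ∈ P := hPn.conj_mem y hy g
  have hbP : b ∈ P := hPn.conj_mem a haP g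
  have hcomm : ∀ s ∈ P, ∀ t ∈ P, s * t = t * s := fun s hs t ht => by
    calc s * t = (s * t)⁻¹ := (inv_eq_of_mul_eq_one_left (hexp _ (mul_mem hs ht))).symm
      _ = t * s := by
          rw [mul_inv_rev, inv_eq_of_mul_eq_one_left (hexp s hs), inv_eq_of_mul_eq_one_left (hexp t ht)]
  have hg3y : g * b * g⁻¹ = y := by
    have h := Subgroup.mem_centralizer_iff.1 hg3 y hy
    calc g * b * g⁻¹ = g ^ 3 * y * (g ^ 3)⁻¹ := by simp only [hb, ha, pow_three]; group
      _ = y := by rw [← h]; group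
  have hv : y * a * b = 1 := by
    refine eq_one_of_fixed P hcard hexp hg hg3 (mul_mem (mul_mem hy haP) hbP) ?_
    calc g * (y * a * b) = (g * y * g⁻¹) * (g * a * g⁻¹) * (g * b * g⁻¹) * g := by group
      _ = a * b * y * g := by rw [hg3y]
      _ = y * a * b * g := by rw [← hcomm y hy _ (mul_mem haP hbP), ← mul_assoc]
  calc (y * g) ^ 3 = y * a * b * g ^ 3 := by simp only [hb, ha, pow_three]; group
    _ = g ^ 3 := by rw [hv, one_mul]

/-- An element inducing an involution has a fixed point, and only one. -/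
theorem exists_fixed {b : G} (hb : b ∉ Subgroup.centralizer (P : Set G))
    (hb2 : b ^ 2 ∈ Subgroup.centralizer (P : Set G)) :
    ∃ y ∈ P, y ≠ 1 ∧ b * y = y * b ∧ (∃ w ∈ P, b * w * b⁻¹ = y * w) ∧
      ∀ v ∈ P, v ≠ 1 → b * v = v * b → v = y := by
  obtain ⟨w, hw, hwf⟩ : ∃ w ∈ P, b * w ≠ w * b := by
    by_contra hall
    push Not at hall
    exact hb (Subgroup.mem_centralizer_iff.2 fun v hv => (hall v hv).symm)
  have hw' : b * w * b⁻¹ ≠ w := fun e => hwf (mul_inv_eq_iff_eq_mul.1 e)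
  have hbb : b * (b * w * b⁻¹) * b⁻¹ = w := by
    have h := Subgroup.mem_centralizer_iff.1 hb2 w hw
    calc b * (b * w * b⁻¹) * b⁻¹ = b ^ 2 * w * (b ^ 2)⁻¹ := by rw [sq]; group
      _ = w := by rw [← h]; group
  have hu : b * w * b⁻¹ ∈ P := hPn.conj_mem w hw b
  have hcomm : (b * w * b⁻¹) * w = w * (b * w * b⁻¹) := by
    have h := hexp _ (mul_mem hu hw)
    calc (b * w * b⁻¹) * w = ((b * w * b⁻¹) * w)⁻¹ := (inv_eq_of_mul_eq_one_left h).symm
      _ = w⁻¹ * (b * w * b⁻¹)⁻¹ := mul_inv_rev _ _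
      _ = w * (b * w * b⁻¹) := by
          rw [inv_eq_of_mul_eq_one_left (hexp w hw), inv_eq_of_mul_eq_one_left (hexp _ hu)]
  have hy1 : (b * w * b⁻¹) * w ≠ 1 := fun e => hw' (mul_right_cancel (e.trans (hexp w hw).symm))
  refine ⟨(b * w * b⁻¹) * w, mul_mem hu hw, hy1, ?_, ⟨w, hw, ?_⟩, fun v hv hv1 hvf => ?_⟩
  · calc b * ((b * w * b⁻¹) * w) = (b * (b * w * b⁻¹) * b⁻¹) * (b * w * b⁻¹) * b := by group
      _ = (b * w * b⁻¹) * w * b := by rw [hbb, ← hcomm]
  · rw [mul_assoc (b * w * b⁻¹), hexp w hw, mul_one]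
  · have hw1 : w ≠ 1 := fun e => hwf (by rw [e]; group)
    have hwy : w ≠ (b * w * b⁻¹) * w := fun e => by
      have e1 : b * w * b⁻¹ = 1 := (mul_eq_right.1 e.symm)
      exact hw1 (conj_eq_one_iff.1 e1)
    rcases four P hcard hexp (mul_mem hu hw) hw hv hy1 hw1 hwy with e | e | e | e
    · exact absurd e hv1
    · exact e
    · exact absurd (e ▸ hvf) hwf
    · rw [mul_assoc, hexp w hw, mul_one] at e
      refine absurd ?_ hw'
      have h1 : b * v * b⁻¹ = v := by rw [hvf]; group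
      rw [e, hbb] at h1
      exact h1.symm

omit hexp in
/-- The action on the three involutions. -/
theorem exists_perm : ∃ φ : G →* Equiv.Perm (Fin 3), φ.ker = Subgroup.centralizer (P : Set G) := by
  classical
  haveI := Fintype.ofFinite P
  have hc : Fintype.card {y : P // y ≠ 1} = 3 := by
    rw [Fintype.card_subtype_compl, Fintype.card_subtype_eq, ← Nat.card_eq_fintype_card, hcard]
  let e : {y : P // y ≠ 1} ≃ Fin 3 := Fintype.equivFinOfCardEq hc
  let ψ : G →* Equiv.Perm {y : P // y ≠ 1} := MonoidHom.mk'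
    (fun g => Equiv.Perm.subtypePerm ((MulAut.conjNormal g : MulAut P).toEquiv : Equiv.Perm P) (fun y => by simp))
    (fun a b => Equiv.ext fun y => Subtype.ext (by simp [map_mul, MulAut.mul_apply]))
  refine ⟨e.permCongrHom.toMonoidHom.comp ψ, ?_⟩
  ext g
  rw [MonoidHom.mem_ker, MonoidHom.comp_apply, MulEquiv.coe_toMonoidHom, MulEquiv.map_eq_one_iff,
    Subgroup.mem_centralizer_iff]
  constructor
  · intro h v hv
    by_cases hv1 : v = 1
    · rw [hv1]; group
    · have := congrArg (fun π : Equiv.Perm {y : P // y ≠ 1} =>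
        (((π ⟨⟨v, hv⟩, fun e => hv1 (congrArg Subtype.val e)⟩ : {y : P // y ≠ 1}) : P) : G)) h
      simp [ψ, MulAut.conjNormal_apply] at this
      exact (mul_inv_eq_iff_eq_mul.1 this).symm
  · intro h
    refine Equiv.ext fun y => Subtype.ext (Subtype.ext ?_)
    simp [ψ, MulAut.conjNormal_apply, ← h _ y.1.2]

/-- The complement isomorphic to `S₄`. -/
theorem exists_s4_complement
    (hC : Subgroup.centralizer (P : Set G) = P ⊔ Subgroup.center G) (hPZ : P ⊓ Subgroup.center G = ⊥)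
    {x : G} (hx : x ∉ Subgroup.centralizer (P : Set G))
    (hx3 : x ^ 3 ∈ Subgroup.centralizer (P : Set G)) {u₀ : G}
    (hu₀ : u₀ ∉ Subgroup.centralizer (P : Set G)) (hu₀2 : u₀ ^ 2 ∈ P) :
    ∃ H : Subgroup G, Nonempty (↥H ≃* Equiv.Perm (Fin 4)) ∧ H ⊓ Subgroup.center G = ⊥ ∧
      H ⊔ Subgroup.center G = ⊤ := by
  classical
  set C := Subgroup.centralizer (P : Set G) with hCdef
  have hPC : P ≤ C := hC ▸ le_sup_left
  have hcomm : ∀ s ∈ P, ∀ t ∈ P, s * t = t * s := fun s hs t ht =>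
    (Subgroup.mem_centralizer_iff.1 (hPC ht) s hs)
  have hdec : ∀ c ∈ C, ∃ y ∈ P, ∃ z ∈ Subgroup.center G, y * z = c := fun c hc => by
    rw [hC] at hc
    exact Subgroup.mem_sup_of_normal_right.1 hc
  have hz : ∀ z ∈ Subgroup.center G, ∀ g : G, g * z = z * g :=
    fun z hz g => Subgroup.mem_center_iff.1 hz g
  -- an involution outside the centraliser
  obtain ⟨u, hu, hu2⟩ : ∃ u, u ∉ C ∧ u * u = 1 := by
    by_cases h1 : u₀ ^ 2 = 1
    · exact ⟨u₀, hu₀, (sq u₀).symm.trans h1⟩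
    obtain ⟨y, -, -, -, ⟨w, hw, hwy⟩, huniq⟩ := exists_fixed P hcard hexp hu₀ (hPC hu₀2)
    have hy : u₀ ^ 2 = y := huniq _ hu₀2 h1 (by rw [← pow_succ, ← pow_succ'])
    refine ⟨w * u₀, fun h => hu₀ ((Subgroup.mul_mem_cancel_left C (hPC hw)).1 h), ?_⟩
    calc w * u₀ * (w * u₀) = w * (u₀ * w * u₀⁻¹) * u₀ ^ 2 := by rw [sq]; group
      _ = w * (y * w) * y := by rw [hwy, hy]
      _ = 1 := by
          have hyP : y ∈ P := hy ▸ hu₀2
          rw [hcomm y hyP w hw, ← mul_assoc, hexp w hw, one_mul, hexp y hyP]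
  obtain ⟨φ, hker⟩ := exists_perm P hcard
  have hφ : ∀ g, φ g = 1 ↔ g ∈ C := fun g => by rw [← MonoidHom.mem_ker, hker]
  have hφu : φ u ≠ 1 := fun e => hu ((hφ u).1 e)
  have hφu2 : φ u ^ 2 = 1 := by rw [← map_pow, sq, hu2, map_one]
  have hφx : φ x ≠ 1 := fun e => hx ((hφ x).1 e)
  have hφx3 : φ x ^ 3 = 1 := by rw [← map_pow]; exact (hφ _).2 hx3
  have hconj : φ u * φ x * φ u = (φ x)⁻¹ :=
    (show ∀ a b : Equiv.Perm (Fin 3), a ^ 2 = 1 → a ≠ 1 → b ^ 3 = 1 → b ≠ 1 → a * b * a = b⁻¹ by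
      decide) _ _ hφu2 hφu hφx3 hφx
  -- the cube of `x` is central
  have hx3z : x ^ 3 ∈ Subgroup.center G := by
    obtain ⟨y, hy, z, hz', e⟩ := hdec _ hx3
    have hy' : y = x ^ 3 * z⁻¹ := eq_mul_inv_of_mul_eq e
    have : y = 1 := eq_one_of_fixed P hcard hexp hx hx3 hy (by
      rw [hy', ← mul_assoc, ← pow_succ', mul_assoc (x ^ 3), ← hz _ (inv_mem hz') x, ← mul_assoc,
        ← pow_succ])
    rw [← e, this, one_mul]
    exact hz'
  set t := u * x * u * x⁻¹ with ht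
  have hxi : x⁻¹ ∉ C := fun h => hx (inv_inv x ▸ inv_mem h)
  have hxi3 : x⁻¹ ^ 3 ∈ C := by rw [inv_pow]; exact inv_mem hx3
  have hx2 : x⁻¹ ^ 2 ∉ C := fun h => hxi (by
    have : x⁻¹ = (x⁻¹ ^ 2)⁻¹ * x⁻¹ ^ 3 := by group
    rw [this]; exact mul_mem (inv_mem h) hxi3)
  have hx23 : (x⁻¹ ^ 2) ^ 3 ∈ C := by rw [← pow_mul, mul_comm, pow_mul]; exact pow_mem hxi3 2
  obtain ⟨y, hy, z, hz', he⟩ := hdec (x * (u * x * u)) ((hφ _).1 (by
    rw [map_mul, map_mul, map_mul, hconj, mul_inv_cancel]))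
  have hyc : x⁻¹ * y * x ∈ P := by simpa using hPn.conj_mem y hy x⁻¹
  have ht3 : t ^ 3 = 1 := by
    have e1 : u * x * u = (x⁻¹ * y * x * x⁻¹) * z := by
      calc u * x * u = x⁻¹ * (x * (u * x * u)) := by group
        _ = x⁻¹ * (y * z) := by rw [he]
        _ = _ := by group
    have hui : u⁻¹ = u := inv_eq_of_mul_eq_one_left hu2
    have e2 : x ^ 3 = x⁻¹ ^ 3 * z ^ 3 := by
      calc x ^ 3 = u * x ^ 3 * u := by rw [hz _ hx3z u, mul_assoc, hu2, mul_one]
        _ = (u * x * u⁻¹) ^ 3 := by rw [conj_pow, hui]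
        _ = (u * x * u) ^ 3 := by rw [hui]
        _ = (x⁻¹ * y * x * x⁻¹) ^ 3 * z ^ 3 := by rw [e1, Commute.mul_pow (hz z hz' _)]
        _ = _ := by rw [cube_mul P hcard hexp hxi hxi3 hyc]
    have e3 : t = (x⁻¹ * y * x) * x⁻¹ ^ 2 * z := by
      rw [ht, e1, mul_assoc _ z, ← hz z hz' x⁻¹, sq]; group
    rw [e3, Commute.mul_pow (hz z hz' _), cube_mul P hcard hexp hx2 hx23 hyc, ← pow_mul,
      show 2 * 3 = 3 + 3 from rfl, pow_add, mul_assoc, ← e2, inv_pow, inv_mul_cancel]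
  have hφt : φ t = (φ x)⁻¹ * (φ x)⁻¹ := by rw [ht, map_mul, map_mul, map_mul, map_inv, hconj]
  have htC : φ t ≠ 1 := fun e => hφx (by
    rw [hφt, ← mul_inv_rev, inv_eq_one, ← sq] at e
    calc φ x = φ x ^ 3 * (φ x ^ 2)⁻¹ := by group
      _ = 1 := by rw [hφx3, e, inv_one, mul_one])
  have hto : orderOf t = 3 :=
    orderOf_eq_prime ht3 (fun e => htC (by rw [e, map_one])) (hp := ⟨Nat.prime_three⟩)
  have hφto : orderOf (φ t) = 3 :=
    orderOf_eq_prime (by rw [← map_pow, ht3, map_one]) htC (hp := ⟨Nat.prime_three⟩)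
  have hinv : ∀ a ∈ Subgroup.zpowers t, u * a = a⁻¹ * u := by
    rintro a ⟨i, rfl⟩
    have hui : u⁻¹ = u := inv_eq_of_mul_eq_one_left hu2
    have h1 : u * t * u⁻¹ = t⁻¹ := by
      rw [ht]
      calc u * (u * x * u * x⁻¹) * u⁻¹ = (u * u) * x * u * x⁻¹ * u⁻¹ := by group
        _ = x * u⁻¹ * x⁻¹ * u⁻¹ := by rw [hu2, one_mul, hui]
        _ = _ := by group
    show u * t ^ i = (t ^ i)⁻¹ * u
    rw [← inv_zpow, ← h1, conj_zpow, inv_mul_cancel_right]
  let J : Subgroup G :=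
    { carrier := {g | ∃ a ∈ Subgroup.zpowers t, g = a ∨ g = a * u}
      one_mem' := ⟨1, one_mem _, Or.inl rfl⟩
      mul_mem' := by
        rintro g g' ⟨a, ha, e | e⟩ ⟨b, hb, e' | e'⟩ <;> subst e <;> subst e'
        · exact ⟨g * g', mul_mem ha hb, Or.inl rfl⟩
        · exact ⟨g * b, mul_mem ha hb, Or.inr (mul_assoc _ _ _).symm⟩
        · exact ⟨a * g'⁻¹, mul_mem ha (inv_mem hb), Or.inr (by rw [mul_assoc, hinv g' hb, ← mul_assoc])⟩
        · exact ⟨a * b⁻¹, mul_mem ha (inv_mem hb), Or.inl (by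
            rw [mul_assoc a, ← mul_assoc u, hinv b hb, mul_assoc, hu2, mul_one])⟩
      inv_mem' := by
        rintro g ⟨a, ha, e | e⟩ <;> subst e
        · exact ⟨g⁻¹, inv_mem ha, Or.inl rfl⟩
        · exact ⟨a, ha, Or.inr (by
            rw [mul_inv_rev, inv_eq_of_mul_eq_one_left hu2, hinv _ (inv_mem ha), inv_inv])⟩ }
  have hJC : ∀ j ∈ J, φ j = 1 → j = 1 := by
    have hA : ∀ a ∈ Subgroup.zpowers t, φ a = 1 → a = 1 := by
      rintro a ⟨i, rfl⟩ h
      change φ (t ^ i) = 1 at h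
      rw [map_zpow, ← orderOf_dvd_iff_zpow_eq_one, hφto] at h
      exact orderOf_dvd_iff_zpow_eq_one.1 (by rw [hto]; exact h)
    rintro j ⟨a, ha, e | e⟩ h <;> subst e
    · exact hA _ ha h
    · exfalso
      rw [map_mul, mul_eq_one_iff_eq_inv] at h
      have ha3 : φ a ^ 3 = 1 := by
        obtain ⟨i, rfl⟩ := ha
        show φ (t ^ i) ^ 3 = 1
        rw [← map_pow, ← zpow_natCast (t ^ i), ← zpow_mul, mul_comm, zpow_mul, zpow_natCast, ht3,
          one_zpow, map_one]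
      rw [h, inv_pow, inv_eq_one] at ha3
      exact hφu (by
        calc φ u = φ u ^ 3 * (φ u ^ 2)⁻¹ := by group
          _ = 1 := by rw [ha3, hφu2, inv_one, mul_one])
  set H := P ⊔ J with hH
  have hHC : ∀ h ∈ H, h ∈ C → h ∈ P := by
    intro h hh hhC
    obtain ⟨y, hy, j, hj, rfl⟩ := Subgroup.mem_sup_of_normal_left.1 hh
    have : j = 1 := hJC j hj ((hφ j).2 ((Subgroup.mul_mem_cancel_left C (hPC hy)).1 hhC))
    rw [this, mul_one]
    exact hy
  have htH : t ∈ H := Subgroup.mem_sup_right (show t ∈ J from ⟨t, Subgroup.mem_zpowers t, Or.inl rfl⟩)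
  have huH : u ∈ H := Subgroup.mem_sup_right (show u ∈ J from ⟨1, one_mem _, Or.inr (one_mul u).symm⟩)
  set f := φ.comp H.subtype with hf
  have hfker : Nat.card f.ker = 4 := by
    rw [← hcard]
    refine Nat.card_congr
      { toFun := fun h => ⟨((h : H) : G), hHC _ (h : H).2 ((hφ _).1 h.2)⟩
        invFun := fun y => ⟨⟨y, Subgroup.mem_sup_left y.2⟩, (hφ _).2 (hPC y.2)⟩
        left_inv := fun h => rfl
        right_inv := fun y => rfl }
  have hrange : f.range = ⊤ := by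
    refine Subgroup.eq_top_of_card_eq _ (le_antisymm (Subgroup.card_le_card_group _) ?_)
    have h6 : Nat.card (Equiv.Perm (Fin 3)) = 6 := by rw [Nat.card_eq_fintype_card]; decide
    have h2 : 2 ∣ Nat.card f.range := by
      have := Subgroup.orderOf_dvd_natCard f.range (x := φ u) ⟨⟨u, huH⟩, rfl⟩
      rwa [orderOf_eq_prime hφu2 hφu] at this
    have h3 : 3 ∣ Nat.card f.range := by
      have := Subgroup.orderOf_dvd_natCard f.range (x := φ t) ⟨⟨t, htH⟩, rfl⟩
      rwa [hφto] at this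
    rw [h6]
    exact Nat.le_of_dvd Nat.card_pos (Nat.Coprime.mul_dvd_of_dvd_of_dvd (by norm_num) h2 h3)
  have hcardH : Nat.card H = 24 := by
    rw [← f.ker.card_mul_index, hfker, Subgroup.index_ker, hrange, Subgroup.card_top,
      Nat.card_eq_fintype_card]
    decide
  refine ⟨H, ?_, ?_, ?_⟩
  · refine Cfsg.Agent.S1012.result hcardH fun h ho => ?_
    have hoG : orderOf (h : G) = 6 := by rw [Subgroup.orderOf_coe, ho]
    set a := (h : G) ^ 2 with ha
    set b := (h : G) ^ 3 with hb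
    have hah : a * b = b * a := (Commute.refl _).pow_pow 2 3
    have hao : orderOf a = 3 := by rw [ha, orderOf_pow, hoG]; rfl
    have hbo : orderOf b = 2 := by rw [hb, orderOf_pow, hoG]; rfl
    have haC : a ∉ C := fun hC' => by
      have h1 := orderOf_dvd_of_pow_eq_one ((sq a).trans (hexp a (hHC a (pow_mem h.2 2) hC')))
      rw [hao] at h1
      norm_num at h1
    have ha3C : a ^ 3 ∈ C := by rw [← hao, pow_orderOf_eq_one]; exact one_mem C
    have hb2 : b ^ 2 = 1 := by rw [← hbo, pow_orderOf_eq_one]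
    by_cases hbC : b ∈ C
    · exact absurd (eq_one_of_fixed P hcard hexp haC ha3C (hHC b (pow_mem h.2 3) hbC) hah)
        (fun e => by rw [e, orderOf_one] at hbo; norm_num at hbo)
    · obtain ⟨y, hy, hy1, hfix, -, huniq⟩ := exists_fixed P hcard hexp hbC (by rw [hb2]; exact one_mem C)
      have hay : a * y * a⁻¹ = y := huniq _ (hPn.conj_mem y hy a) (fun e => hy1 (conj_eq_one_iff.1 e)) (by
        calc b * (a * y * a⁻¹) = (b * a) * y * a⁻¹ := by group
          _ = a * (b * y) * a⁻¹ := by rw [← hah]; group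
          _ = a * y * (b * a⁻¹) := by rw [hfix]; group
          _ = a * y * a⁻¹ * (a * b) * a⁻¹ := by group
          _ = a * y * a⁻¹ * b := by rw [hah]; group)
      exact hy1 (eq_one_of_fixed P hcard hexp haC ha3C hy (mul_inv_eq_iff_eq_mul.1 hay))
  · refine (eq_bot_iff).2 fun g hg => ?_
    rw [← hPZ]
    exact ⟨hHC g hg.1 (hC ▸ Subgroup.mem_sup_right hg.2), hg.2⟩
  · refine eq_top_iff.2 fun g _ => ?_
    obtain ⟨⟨h, hh⟩, e⟩ : φ g ∈ f.range := by rw [hrange]; exact Subgroup.mem_top _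
    obtain ⟨y, hy, z, hz', e'⟩ := hdec (h⁻¹ * g) ((hφ _).1 (by
      rw [map_mul, map_inv, ← e]; exact inv_mul_cancel _))
    have : g = (h * y) * z := by rw [mul_assoc, e', mul_inv_cancel_left]
    rw [this]
    exact Subgroup.mul_mem_sup (mul_mem hh (Subgroup.mem_sup_left hy)) hz'

end CfsgLib.RootOnSingular
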