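import Cfsg.Agent.Lib.RootOnSingular.Eigen
import Cfsg.Agent.Lib.RootOnSingular.FourGroup
import Cfsg.Agent.Lib.CharTheory.Clifford
import Cfsg.Agent.Lib.Basic
import Cfsg.Prelude.Def_Transfer

/-!
# A faithful character with root-of-unity values on singular elements and a nontrivial `p`-core
-/

namespace CfsgLib.RootOnSingular

open Cfsg CfsgLib CfsgLib.CharTheory
open scoped ComplexConjugate

set_option autoImplicit false
set_option linter.style.haveILetI false
set_option linter.unusedSectionVars false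

universe u

variable {G : Type u} [Group G] [Fintype G]

theorem central_of_norm {χ : G → ℂ} (hχ : IsCharacter G χ)
    (hfaith : ∀ g, χ g = χ 1 → g = 1) {c : G} (h : ‖χ c‖ = ‖χ 1‖) : c ∈ Subgroup.center G := by
  obtain ⟨n, ρ, rfl⟩ := hχ
  rw [ρ.char_one, Complex.norm_natCast] at h
  obtain ⟨ω, hω⟩ := eq_smul_id_of_norm_character_eq ρ c h
  rw [Subgroup.mem_center_iff]
  intro g
  have h1 : g * c * g⁻¹ * c⁻¹ = 1 := hfaith _ (by
    rw [ρ.char_one]
    refine (character_eq_finrank_iff ρ _).2 ?_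
    have : ρ g * ρ c = ρ c * ρ g := by
      rw [hω, ← Module.End.one_eq_id, mul_smul_one, smul_one_mul]
    rw [map_mul, map_mul, map_mul, this, mul_assoc (ρ c), ← map_mul ρ g, mul_inv_cancel, map_one,
      mul_one, ← map_mul, mul_inv_cancel, map_one]
    rfl)
  exact mul_inv_eq_iff_eq_mul.1 (mul_inv_eq_one.1 h1)

section abelian

variable {P : Type u} [Group P] [Fintype P] (hab : ∀ a b : P, a * b = b * a)

include hab

/-- The linear characters of an abelian group are all its irreducible characters. -/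
noncomputable def homEquiv : (P →* ℂˣ) ≃ IrrCharacter P :=
  Equiv.ofBijective (fun f => ⟨fun y => (f y : ℂ), isIrrCharacter_linear f⟩)
    ⟨fun f f' h => MonoidHom.ext fun y => Units.ext (congrFun (congrArg Subtype.val h) y),
     fun ⟨χ, hχ⟩ => by
      obtain ⟨f, hf⟩ := exists_hom_of_degree_one (isCharacter_of_irr hχ) (degree_one_of_commutative hab hχ)
      exact ⟨f, Subtype.ext hf.symm⟩⟩

theorem card_hom [Fintype (P →* ℂˣ)] : Fintype.card (P →* ℂˣ) = Nat.card P := by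
  classical
  have h := sum_irr_degree_sq (G := P)
  rw [← (homEquiv hab).sum_comp] at h
  have h' : ∀ f, ((homEquiv hab f : IrrCharacter P) : P → ℂ) 1 = 1 := fun f => by
    show ((f 1 : ℂˣ) : ℂ) = 1
    simp
  simp [h'] at h
  rw [Nat.card_eq_fintype_card]
  exact_mod_cast h

/-- Parseval's identity. -/
theorem parseval [Fintype (P →* ℂˣ)] (F : P → ℂ) :
    ∑ y, ‖F y‖ ^ 2 = (Nat.card P : ℝ) * ∑ ψ : P →* ℂˣ, ‖classInner F (fun y => (ψ y : ℂ))‖ ^ 2 := by
  classical
  have hF : IsClassFunction P F := fun a g => by rw [hab g a, mul_assoc, mul_inv_cancel, mul_one]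
  have h : classInner F F = ∑ χ : IrrCharacter P,
      classInner F (χ : P → ℂ) * conj (classInner F (χ : P → ℂ)) := by
    nth_rw 1 [eq_sum_irr hF]
    rw [classInner_sum_left]
    refine Finset.sum_congr rfl fun χ _ => ?_
    rw [classInner_smul_left, classInner_comm]
  rw [← (homEquiv hab).sum_comp] at h
  simp only [classInner, Complex.mul_conj'] at h
  rw [inv_mul_eq_iff_eq_mul₀ (Nat.cast_ne_zero.2 Nat.card_pos.ne')] at h
  have e : (fun f : P →* ℂˣ => ((homEquiv hab f : IrrCharacter P) : P → ℂ)) = fun f y => (f y : ℂ) := rfl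
  simp only [classInner]
  exact_mod_cast h

end abelian

/-- The data obtained from the restriction to the `p`-core. -/
theorem res_core {p : ℕ} [hp : Fact p.Prime] {χ : G → ℂ} (hirr : IsIrrCharacter G χ)
    (hfaith : ∀ g, χ g = χ 1 → g = 1) (hnl : χ 1 ≠ 1)
    (hnorm : ∀ g : G, p ∣ orderOf g → ‖χ g‖ = 1) (P : Subgroup G) [P.Normal] [Fintype P]
    (hPp : IsPGroup p P) (hP : P ≠ ⊥) [Fintype (P →* ℂˣ)] [DecidableEq (P →* ℂˣ)] :
    (∀ a b : P, a * b = b * a) ∧ χ 1 = ((Nat.card P - 1 : ℕ) : ℂ) ∧ 3 ≤ Nat.card P ∧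
      (∀ ψ : P →* ℂˣ, classInner (fun y : P => χ y) (fun y => (ψ y : ℂ)) = if ψ = 1 then 0 else 1) ∧
      (∀ y : P, χ y = ∑ ψ ∈ Finset.univ.erase (1 : P →* ℂˣ), (ψ y : ℂ)) ∧
      (∀ ψ ψ' : P →* ℂˣ, ψ ≠ 1 → ψ' ≠ 1 → ∃ g : G, ∀ y : P, ψ' y = ψ (MulAut.conjNormal g y)) ∧
      ∀ ψ : P →* ℂˣ, ψ ≠ 1 → (inertia P (fun y => (ψ y : ℂ))).index = Nat.card P - 1 := by
  classical
  set N := Nat.card P with hN
  obtain ⟨n, hn⟩ := IsPGroup.iff_card.1 hPp
  have hn0 : n ≠ 0 := fun e => hP (Subgroup.card_eq_one.1 (by rw [hn, e, pow_zero]))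
  obtain ⟨d, hd0, hd⟩ := irr_degree_pos hirr
  have hres := isCharacter_restrict (isCharacter_of_irr hirr) P
  obtain ⟨θ, hθ, hθne⟩ := exists_constituent hres (fun e => by
    have := congrFun e 1
    simp only [OneMemClass.coe_one, Pi.zero_apply, hd] at this
    exact hd0.ne' (Nat.cast_eq_zero.1 this))
  obtain ⟨e, he⟩ := classInner_char_nat hres (isCharacter_of_irr hθ)
  have hcl := clifford P hirr hθ hθne
  have hdeg := clifford_degree P hirr hθ hθne
  obtain ⟨t, ht0, ht⟩ := irr_degree_pos hθ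
  rw [he] at hcl
  set O := conjOrbit P θ with hO
  set k := O.card with hk
  rw [he, ← card_conjOrbit, ← hO, ← hk, ht, hd] at hdeg
  have hdeg' : d = e * k * t := by exact_mod_cast hdeg
  have horth : classInner (∑ ψ ∈ O, ψ) (∑ ψ ∈ O, ψ) = (k : ℂ) := by
    have hirrO : ∀ ψ ∈ O, IsIrrCharacter P ψ := fun ψ hψ => by
      obtain ⟨g, rfl⟩ := (mem_conjOrbit P).1 hψ
      exact isIrr_conjNormFun P g hθ
    rw [classInner_sum_left, Finset.sum_congr rfl (g := fun _ => (1 : ℂ)) (fun ψ hψ => ?_)]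
    · simp [hk]
    · rw [classInner_sum_right, Finset.sum_eq_single ψ]
      · exact classInner_irr_self (hirrO ψ hψ)
      · exact fun φ hφ hne => classInner_irr_ne (hirrO ψ hψ) (hirrO φ hφ) (Ne.symm hne)
      · exact fun h => absurd hψ h
  have hsum : ∑ y : P, χ y * conj (χ y) = ((d ^ 2 + (N - 1) : ℕ) : ℂ) := by
    rw [← Finset.add_sum_erase _ _ (Finset.mem_univ (1 : P)), OneMemClass.coe_one, hd,
      Finset.sum_congr rfl (g := fun _ => (1 : ℂ)) (fun y hy => ?_)]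
    · rw [Finset.sum_const, Finset.card_erase_of_mem (Finset.mem_univ _), Finset.card_univ,
        ← Nat.card_eq_fintype_card, ← hN, Complex.conj_natCast, nsmul_eq_mul, mul_one]
      push_cast
      ring
    · rw [Complex.mul_conj', hnorm]
      · simp
      · rw [Subgroup.orderOf_coe]
        obtain ⟨j, hj⟩ := (IsPGroup.iff_orderOf.1 hPp) y
        rw [hj]
        refine dvd_pow_self p fun e => (Finset.mem_erase.1 hy).1 ?_
        rw [e, pow_zero] at hj
        exact orderOf_eq_one_iff.1 hj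
  have hkey : d ^ 2 + (N - 1) = e ^ 2 * k * N := by
    have h1 : classInner (fun y : P => χ y) (fun y : P => χ y) = (e : ℂ) ^ 2 * k := by
      rw [hcl, classInner_smul_left, classInner_smul_right, horth, Complex.conj_natCast]
      ring
    rw [classInner, inv_mul_eq_iff_eq_mul₀ (Nat.cast_ne_zero.2 Nat.card_pos.ne'), hsum, ← hN] at h1
    have : ((d ^ 2 + (N - 1) : ℕ) : ℂ) = ((e ^ 2 * k * N : ℕ) : ℂ) := by
      rw [h1]; push_cast; ring
    exact_mod_cast this
  have hpN : p ∣ N := by rw [hN, hn]; exact dvd_pow_self p hn0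
  have hN0 : 1 ≤ N := Nat.card_pos
  have hpd : ¬ p ∣ d := fun h => by
    have h2 : p ∣ d ^ 2 + (N - 1) := hkey ▸ hpN.mul_left _
    have h3 := (Nat.dvd_add_iff_right (dvd_pow h (by norm_num : (2 : ℕ) ≠ 0))).2 h2
    have h4 := (Nat.dvd_add_iff_right h3).2 (by rw [Nat.sub_add_cancel hN0]; exact hpN : p ∣ (N - 1) + 1)
    exact hp.out.not_dvd_one h4
  have ht1 : t = 1 := by
    have h1 : t ∣ N := by
      obtain ⟨m, ρ, hρ, hρθ⟩ := hθ
      rw [← congrFun hρθ 1, ρ.char_one] at ht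
      rw [← (Nat.cast_inj.1 ht : Module.finrank ℂ (Fin m → ℂ) = t)]
      exact finrank_dvd_card ρ
    obtain ⟨j, -, rfl⟩ := (Nat.dvd_prime_pow hp.out).1 (by rw [← hn]; exact h1 : t ∣ p ^ n)
    by_contra hj
    exact hpd (hdeg' ▸ Dvd.dvd.mul_left (dvd_pow_self p (fun e => hj (by rw [e, pow_zero]))) _)
  subst ht1
  rw [mul_one] at hdeg'
  have hO1 : ∀ ψ ∈ O, ψ 1 = 1 := fun ψ hψ => by
    obtain ⟨g, rfl⟩ := (mem_conjOrbit P).1 hψ
    rw [conjNormFun_apply_one, ht, Nat.cast_one]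
  have hirrO : ∀ ψ ∈ O, IsIrrCharacter P ψ := fun ψ hψ => by
    obtain ⟨g, rfl⟩ := (mem_conjOrbit P).1 hψ
    exact isIrr_conjNormFun P g hθ
  have hχO : ∀ y : P, χ y = (e : ℂ) * ∑ ψ ∈ O, ψ y := fun y => by
    have := congrFun hcl y
    simpa [Finset.sum_apply] using this
  have hab : ∀ a b : P, a * b = b * a := by
    intro a b
    have h1 : χ ((a * b * a⁻¹ * b⁻¹ : P) : G) = χ 1 := by
      rw [hχO, ← OneMemClass.coe_one P, hχO 1]
      congr 1
      refine Finset.sum_congr rfl fun ψ hψ => ?_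
      obtain ⟨f, rfl⟩ := exists_hom_of_degree_one (isCharacter_of_irr (hirrO ψ hψ)) (hO1 ψ hψ)
      simp [mul_comm]
    have h2 : a * b * a⁻¹ * b⁻¹ = 1 := Subtype.ext (hfaith _ h1)
    exact mul_inv_eq_iff_eq_mul.1 (mul_inv_eq_one.1 h2)
  set T : Finset (P → ℂ) := (Finset.univ.erase (1 : P →* ℂˣ)).image (fun f y => (f y : ℂ)) with hT
  have hinj : Function.Injective (fun (f : P →* ℂˣ) (y : P) => (f y : ℂ)) :=
    fun f f' h => MonoidHom.ext fun y => Units.ext (congrFun h y)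
  have hTcard : T.card = N - 1 := by
    rw [hT, Finset.card_image_of_injective _ hinj, Finset.card_erase_of_mem (Finset.mem_univ _),
      Finset.card_univ, card_hom hab]
  have he0 : e ≠ 0 := fun h => hd0.ne' (by rw [hdeg', h, zero_mul])
  have hsub : O ⊆ T := by
    intro ψ hψ
    obtain ⟨f, rfl⟩ := exists_hom_of_degree_one (isCharacter_of_irr (hirrO ψ hψ)) (hO1 ψ hψ)
    refine Finset.mem_image.2 ⟨f, Finset.mem_erase.2 ⟨?_, Finset.mem_univ _⟩, rfl⟩
    rintro rfl
    -- the trivial character would be the only constituent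
    obtain ⟨g, hg⟩ := (mem_conjOrbit P).1 hψ
    have hθ1 : θ = fun _ => (1 : ℂ) := by
      have h1 := conjNormFun_inv P g θ
      rw [hg] at h1
      rw [← h1]
      funext y
      simp [conjNormFun]
    have hO' : O = {fun _ => (1 : ℂ)} := by
      ext φ
      rw [hO, mem_conjOrbit, Finset.mem_singleton, hθ1]
      exact ⟨fun ⟨g, hg⟩ => hg.symm, fun h => ⟨1, h.symm⟩⟩
    refine hP ((Subgroup.eq_bot_iff_forall P).2 fun y hy => hfaith y ?_)
    have e1 := hχO ⟨y, hy⟩
    have e2 := hχO 1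
    simp only [hO', Finset.sum_singleton] at e1 e2
    rw [OneMemClass.coe_one] at e2
    rw [e1, e2]
  have hkN : k ≤ N - 1 := hTcard ▸ Finset.card_le_card hsub
  have hk0 : k ≠ 0 := fun h => hd0.ne' (by rw [hdeg', h, mul_zero])
  have hd1 : d ≠ 1 := fun h => hnl (by rw [hd, h, Nat.cast_one])
  obtain ⟨he1, hk1⟩ : e = 1 ∧ k = N - 1 := by
    obtain ⟨j, hj⟩ : ∃ j, N = k + j + 1 := ⟨N - k - 1, by omega⟩
    rw [hdeg', hj, show k + j + 1 - 1 = k + j by omega] at hkey
    have h1 : k + j = e ^ 2 * k * (j + 1) := by nlinarith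
    have he1 : e = 1 := by
      by_contra hne
      have h4 : 4 ≤ e ^ 2 := by nlinarith [show 2 ≤ e by omega]
      have h5 := Nat.mul_le_mul_right (k * (j + 1)) h4
      have h6 : j ≤ k * j := Nat.le_mul_of_pos_left j (by omega)
      nlinarith [show 1 ≤ k by omega]
    refine ⟨he1, ?_⟩
    subst he1
    have : k * j = j := by nlinarith
    rcases Nat.eq_zero_or_pos j with h | h
    · omega
    · have : k = 1 := (Nat.mul_eq_right h.ne').1 this
      exact absurd (by rw [hdeg', this, one_mul]) hd1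
  have hOT : O = T := Finset.eq_of_subset_of_card_le hsub (by rw [hTcard, ← hk, hk1])
  have hdN : d = N - 1 := by rw [hdeg', he1, one_mul, hk1]
  have hsum' : ∀ y : P, χ y = ∑ ψ ∈ Finset.univ.erase (1 : P →* ℂˣ), (ψ y : ℂ) := fun y => by
    rw [hχO, he1, Nat.cast_one, one_mul, hOT, hT, Finset.sum_image hinj.injOn]
  refine ⟨hab, by rw [hd, hdN], by omega, fun ψ => ?_, hsum', ?_, ?_⟩
  · rw [show (fun y : P => χ y) = ∑ φ ∈ Finset.univ.erase (1 : P →* ℂˣ), (fun y => (φ y : ℂ)) from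
      funext fun y => by rw [hsum', Finset.sum_apply], classInner_sum_left]
    have horth : ∀ φ : P →* ℂˣ,
        classInner (fun y => (φ y : ℂ)) (fun y => (ψ y : ℂ)) = if φ = ψ then 1 else 0 := fun φ => by
      rw [classInner_irr (isIrrCharacter_linear φ) (isIrrCharacter_linear ψ)]
      exact if_congr hinj.eq_iff rfl rfl
    simp only [horth, Finset.sum_ite_eq', Finset.mem_erase, Finset.mem_univ, and_true, ite_not]
  · intro ψ ψ' h h'
    have m1 : (fun y => (ψ y : ℂ)) ∈ O :=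
      hOT ▸ Finset.mem_image.2 ⟨ψ, Finset.mem_erase.2 ⟨h, Finset.mem_univ _⟩, rfl⟩
    have m2 : (fun y => (ψ' y : ℂ)) ∈ O :=
      hOT ▸ Finset.mem_image.2 ⟨ψ', Finset.mem_erase.2 ⟨h', Finset.mem_univ _⟩, rfl⟩
    obtain ⟨a, ha⟩ := (mem_conjOrbit P).1 m1
    obtain ⟨b, hb⟩ := (mem_conjOrbit P).1 m2
    refine ⟨a⁻¹ * b, fun y => Units.ext ?_⟩
    have h1 : (fun y => (ψ' y : ℂ)) = conjNormFun P (a⁻¹ * b) (fun y => (ψ y : ℂ)) := by
      rw [conjNormFun_mul, ← ha, conjNormFun_inv, hb]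
    rw [congrFun h1 y, conjNormFun_eq]
  · intro ψ h
    have m1 : (fun y => (ψ y : ℂ)) ∈ O :=
      hOT ▸ Finset.mem_image.2 ⟨ψ, Finset.mem_erase.2 ⟨h, Finset.mem_univ _⟩, rfl⟩
    obtain ⟨a, ha⟩ := (mem_conjOrbit P).1 m1
    rw [← card_conjOrbit, ← hk1, hk, hO]
    congr 1
    ext φ
    rw [mem_conjOrbit, mem_conjOrbit]
    constructor
    · rintro ⟨g, rfl⟩
      exact ⟨a * g, by rw [conjNormFun_mul, ha]⟩
    · rintro ⟨g, rfl⟩
      exact ⟨a⁻¹ * g, by rw [conjNormFun_mul, ← ha, conjNormFun_inv]⟩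

/-- A central `p`-element lies in the `p`-core. -/
theorem mem_pCore_of_central {p : ℕ} {z : G} (hz : z ∈ Subgroup.center G) {j : ℕ}
    (hj : orderOf z = p ^ j) : z ∈ pCore p G := by
  haveI : (Subgroup.zpowers z).Normal := ⟨fun a ha g => by
    rw [Subgroup.mem_center_iff.1 ((Subgroup.zpowers_le.2 hz) ha) g, mul_inv_cancel_right]
    exact ha⟩
  exact le_pCore (IsPGroup.of_card (n := j) (by rw [Nat.card_zpowers, hj])) (Subgroup.mem_zpowers z)

theorem main (p : ℕ) [hp : Fact p.Prime] {χ : G → ℂ} (hirr : IsIrrCharacter G χ)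
    (hfaith : ∀ g : G, χ g = χ 1 → g = 1) (hnl : χ 1 ≠ 1)
    (hnorm : ∀ g : G, p ∣ orderOf g → ‖χ g‖ = 1) (hP : pCore p G ≠ ⊥) :
    ((Nat.card (pCore p G)).factorization p = (Nat.card G).factorization p ∧
      IsElementaryAbelian p (pCore p G) ∧
      Subgroup.centralizer ((pCore p G : Subgroup G) : Set G) = pCore p G ⊔ Subgroup.center G ∧
      pCore p G ⊓ Subgroup.center G = ⊥ ∧
      (∀ lam mu : ↥(pCore p G) → ℂ, IsCharacter ↥(pCore p G) lam → lam 1 = 1 →
        lam ≠ (fun _ => (1 : ℂ)) → IsCharacter ↥(pCore p G) mu → mu 1 = 1 → mu ≠ (fun _ => (1 : ℂ)) →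
        ∃ g : G, ∀ (x : G) (hx : x ∈ pCore p G) (hgx : g * x * g⁻¹ ∈ pCore p G),
          mu ⟨x, hx⟩ = lam ⟨g * x * g⁻¹, hgx⟩) ∧
      χ 1 = (Nat.card ↥(pCore p G) : ℂ) - 1) ∨
    (p = 2 ∧ Odd (Nat.card ↥(Subgroup.center G)) ∧
      ∃ H : Subgroup G, Nonempty (↥H ≃* Equiv.Perm (Fin 4)) ∧ H ⊓ Subgroup.center G = ⊥ ∧
        H ⊔ Subgroup.center G = ⊤) := by
  classical
  set P := pCore p G with hPdef
  haveI : P.Normal := inferInstance
  haveI := Fintype.ofFinite P
  have hPp : IsPGroup p P := isPGroup_pCore p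
  obtain ⟨n, hn⟩ := IsPGroup.iff_card.1 hPp
  have hn0 : n ≠ 0 := fun e => hP (Subgroup.card_eq_one.1 (by rw [hn, e, pow_zero]))
  have hχc := isCharacter_of_irr hirr
  haveI : Finite (P →* ℂˣ) := by
    refine Finite.of_injective (fun f : P →* ℂˣ => fun y : P => (⟨(f y : ℂ), ?_⟩ :
      {z : ℂ // z ∈ Polynomial.nthRootsFinset (Nat.card P) (1 : ℂ)})) fun f f' h => MonoidHom.ext fun y =>
        Units.ext (congrArg Subtype.val (congrFun h y))
    rw [Polynomial.mem_nthRootsFinset Nat.card_pos, ← Units.val_pow_eq_pow_val, ← map_pow, pow_card_eq_one',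
      map_one, Units.val_one]
  haveI := Fintype.ofFinite (P →* ℂˣ)
  obtain ⟨hab, hd, hN3, hmult, hsum, htrans, hindex⟩ := res_core hirr hfaith hnl hnorm P hPp hP
  set N := Nat.card P with hN
  have hpN : p ∣ N := hn ▸ dvd_pow_self p hn0
  have hdn : ‖χ 1‖ = ((N - 1 : ℕ) : ℝ) := by rw [hd, Complex.norm_natCast]
  have hsingP : ∀ y : P, y ≠ 1 → p ∣ orderOf (y : G) := fun y hy => by
    rw [Subgroup.orderOf_coe]
    obtain ⟨j, hj⟩ := (IsPGroup.iff_orderOf.1 hPp) y
    rw [hj]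
    refine dvd_pow_self p fun e => hy ?_
    rw [e, pow_zero] at hj
    exact orderOf_eq_one_iff.1 hj
  have hcardhom : Fintype.card (P →* ℂˣ) = N := card_hom hab
  -- elementary abelian
  have hexp : ∀ y ∈ P, y ^ p = 1 := by
    intro y hy
    obtain ⟨l, hl⟩ := exists_prime_orderOf_dvd_card p (hcardhom ▸ hpN : p ∣ Fintype.card (P →* ℂˣ))
    have hl1 : l ≠ 1 := fun e => by rw [e, orderOf_one] at hl; exact hp.out.ne_one hl.symm
    have hlp : ∀ w : P, (l w : ℂˣ) ^ p = 1 := fun w => by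
      rw [← MonoidHom.pow_apply, ← hl, pow_orderOf_eq_one]; rfl
    have h1 : χ ((⟨y, hy⟩ ^ p : P) : G) = χ 1 := by
      rw [hsum, Finset.sum_congr rfl (g := fun _ => (1 : ℂ)) (fun ψ hψ => ?_), Finset.sum_const,
        Finset.card_erase_of_mem (Finset.mem_univ _), Finset.card_univ, hcardhom, hd, nsmul_eq_mul, mul_one]
      obtain ⟨g, hg⟩ := htrans l ψ hl1 (Finset.mem_erase.1 hψ).1
      rw [hg, map_pow, map_pow, hlp, Units.val_one]
    simpa using hfaith _ h1
  -- the centre meets the core trivially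
  have hPZ : P ⊓ Subgroup.center G = ⊥ := by
    rw [Subgroup.eq_bot_iff_forall]
    rintro z ⟨hzP, hzZ⟩
    by_contra hz1
    obtain ⟨θ, hθ⟩ : ∃ θ : P →* ℂˣ, θ ≠ 1 := Fintype.exists_ne_of_one_lt_card (by omega) 1
    have h1 : χ z = (N - 1 : ℕ) • (θ ⟨z, hzP⟩ : ℂ) := by
      rw [hsum ⟨z, hzP⟩, Finset.sum_congr rfl (g := fun _ => (θ ⟨z, hzP⟩ : ℂ)) (fun ψ hψ => ?_),
        Finset.sum_const, Finset.card_erase_of_mem (Finset.mem_univ _), Finset.card_univ, hcardhom]
      obtain ⟨g, hg⟩ := htrans θ ψ hθ (Finset.mem_erase.1 hψ).1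
      rw [hg]
      congr 2
      exact Subtype.ext (by simp [Subgroup.mem_center_iff.1 hzZ g])
    have h2 := hnorm z (hsingP ⟨z, hzP⟩ (fun e => hz1 (congrArg Subtype.val e)))
    rw [h1, nsmul_eq_mul, norm_mul, hom_norm, mul_one, Complex.norm_natCast, Nat.cast_eq_one] at h2
    omega
  -- Fourier coefficients along a coset
  let a : G → (P →* ℂˣ) → ℂ := fun c ψ => classInner (fun y : P => χ (c * y)) (fun y => (ψ y : ℂ))
  have ha0 : ∀ c, a c 1 = 0 := fun c => (coeff_coset hχc P 1 c).1 (by rw [hmult, if_pos rfl])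
  have ha1 : ∀ c (ψ : P →* ℂˣ), ψ ≠ 1 → (∀ y : P, ψ (MulAut.conjNormal c⁻¹ y) = ψ y) → ‖a c ψ‖ = 1 :=
    fun c ψ h hfix => (coeff_coset hχc P ψ c).2 (by rw [hmult, if_neg h])
      fun y => ⟨MulAut.conjNormal c⁻¹ y, by simp [MulAut.conjNormal_apply, ← mul_assoc], hfix y⟩
  have ha2 : ∀ c (ψ : P →* ℂˣ), ¬ (∀ y : P, ψ (MulAut.conjNormal c⁻¹ y) = ψ y) → a c ψ = 0 := by
    intro c ψ h
    push Not at h
    obtain ⟨x, hx⟩ := h
    exact coeff_eq_zero_of_not_fixed (isClassFunction_irr hirr) P ψ c x _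
      (by simp [MulAut.conjNormal_apply, ← mul_assoc]) hx
  have hcount : ∀ c, ∑ y : P, ‖χ (c * y)‖ ^ 2 = (N : ℝ) *
      (Finset.univ.filter fun ψ : P →* ℂˣ => ψ ≠ 1 ∧ ∀ y : P, ψ (MulAut.conjNormal c⁻¹ y) = ψ y).card := by
    intro c
    rw [parseval hab, Finset.card_eq_sum_ones, Nat.cast_sum, Finset.sum_filter]
    congr 1
    refine Finset.sum_congr rfl fun ψ _ => ?_
    show ‖a c ψ‖ ^ 2 = _
    by_cases h1 : ψ = 1
    · rw [h1, ha0, if_neg (fun h => h.1 rfl)]; simp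
    by_cases h2 : ∀ y : P, ψ (MulAut.conjNormal c⁻¹ y) = ψ y
    · rw [ha1 c ψ h1 h2, if_pos ⟨h1, h2⟩]; simp
    · rw [ha2 c ψ h2, if_neg (fun h => h2 h.2)]; simp
  -- the centraliser
  set C := Subgroup.centralizer (P : Set G) with hCdef
  have hCfix : ∀ c ∈ C, ∀ y : P, MulAut.conjNormal c⁻¹ y = y := fun c hc y => Subtype.ext (by
    simp only [MulAut.conjNormal_apply, inv_inv]
    rw [mul_assoc, Subgroup.mem_centralizer_iff.1 hc y y.2, inv_mul_cancel_left])
  have hcardfix : ∀ c ∈ C,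
      (Finset.univ.filter fun ψ : P →* ℂˣ => ψ ≠ 1 ∧ ∀ y : P, ψ (MulAut.conjNormal c⁻¹ y) = ψ y).card
        = N - 1 := by
    intro c hc
    rw [show (Finset.univ.filter fun ψ : P →* ℂˣ => ψ ≠ 1 ∧ ∀ y : P, ψ (MulAut.conjNormal c⁻¹ y) = ψ y) =
      Finset.univ.erase 1 by ext ψ; simp only [Finset.mem_filter, Finset.mem_univ, true_and, Finset.mem_erase, and_true, hCfix c hc, implies_true], Finset.card_erase_of_mem (Finset.mem_univ _),
      Finset.card_univ, hcardhom]
  have hC : C = P ⊔ Subgroup.center G := by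
    refine le_antisymm (fun c hc => ?_) (sup_le (fun x hx => ?_) (Subgroup.center_le_centralizer _))
    · have h1 := hcount c
      rw [hcardfix c hc] at h1
      by_cases hreg : ∃ y₀ : P, ¬ p ∣ orderOf (c * (y₀ : G))
      · obtain ⟨y₀, hy₀⟩ := hreg
        set c' := c * (y₀ : G) with hc'
        have hy₀C : (y₀ : G) ∈ C :=
          Subgroup.mem_centralizer_iff.2 fun v hv => congrArg Subtype.val (hab ⟨v, hv⟩ y₀)
        have hc'C : c' ∈ C := mul_mem hc hy₀C
        have h2 := hcount c'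
        rw [hcardfix c' hc'C, ← Finset.add_sum_erase _ _ (Finset.mem_univ (1 : P)),
          Finset.sum_congr rfl (g := fun _ => (1 : ℝ)) (fun y hy => ?_), Finset.sum_const,
          Finset.card_erase_of_mem (Finset.mem_univ _), Finset.card_univ, ← Nat.card_eq_fintype_card, ← hN,
          nsmul_eq_mul, mul_one, OneMemClass.coe_one, mul_one] at h2
        · have h3 : ‖χ c'‖ ^ 2 = ‖χ 1‖ ^ 2 := by
            rw [hdn]
            have : (((N - 1 : ℕ) : ℝ)) = (N : ℝ) - 1 := by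
              rw [Nat.cast_sub (by omega), Nat.cast_one]
            rw [this] at h2 ⊢
            nlinarith
          have hz := central_of_norm hχc hfaith
            ((pow_left_inj₀ (norm_nonneg _) (norm_nonneg _) (by norm_num)).1 h3)
          have : c = ((y₀ : G))⁻¹ * c' := by
            rw [Subgroup.mem_center_iff.1 hz ((y₀ : G))⁻¹, hc']; group
          rw [this]
          exact Subgroup.mul_mem_sup (inv_mem y₀.2) hz
        · rw [hnorm _ ?_, one_pow]
          have hy1 := (Finset.mem_erase.1 hy).1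
          have hcomm : Commute c' (y : G) := (Subgroup.mem_centralizer_iff.1 hc'C y y.2).symm
          have hy' := hsingP y hy1
          obtain ⟨j, hj⟩ := (IsPGroup.iff_orderOf.1 hPp) y
          rw [hcomm.orderOf_mul_eq_mul_orderOf_of_coprime]
          · exact hy'.mul_left _
          · rw [Subgroup.orderOf_coe, hj]
            exact Nat.Coprime.pow_right _ ((Nat.Prime.coprime_iff_not_dvd hp.out).2 hy₀).symm
      · exfalso
        push Not at hreg
        rw [Finset.sum_congr rfl (g := fun _ => (1 : ℝ)) (fun y _ => by rw [hnorm _ (hreg y), one_pow]),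
          Finset.sum_const, Finset.card_univ, ← Nat.card_eq_fintype_card, ← hN, nsmul_eq_mul, mul_one] at h1
        have : (N : ℕ) = N * (N - 1) := by exact_mod_cast h1
        have : N * 2 ≤ N * (N - 1) := Nat.mul_le_mul_left _ (by omega)
        omega
    · exact Subgroup.mem_centralizer_iff.2 fun v hv => congrArg Subtype.val (hab ⟨v, hv⟩ ⟨x, hx⟩)
  by_cases hsyl : N.factorization p = (Nat.card G).factorization p
  · refine Or.inl ⟨hsyl, ⟨⟨⟨hab⟩⟩, hexp⟩, hC, hPZ, ?_, ?_⟩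
    · intro lam mu hl hl1 hl' hm hm1 hm'
      obtain ⟨f, rfl⟩ := exists_hom_of_degree_one hl hl1
      obtain ⟨f', rfl⟩ := exists_hom_of_degree_one hm hm1
      obtain ⟨g, hg⟩ := htrans f f' (fun e => hl' (by funext y; simp [e])) (fun e => hm' (by funext y; simp [e]))
      refine ⟨g, fun x hx hgx => ?_⟩
      show (f' ⟨x, hx⟩ : ℂ) = _
      rw [hg]
      congr 2
    · rw [hd, Nat.cast_sub (by omega), Nat.cast_one]
  right
  obtain ⟨θ, hθ⟩ : ∃ θ : P →* ℂˣ, θ ≠ 1 := Fintype.exists_ne_of_one_lt_card (by omega) 1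
  set T := inertia P (fun y => (θ y : ℂ)) with hT
  have hTi : T.index = N - 1 := hindex θ hθ
  have hPT : P ≤ T := le_inertia P (isClassFunction_irr (isIrrCharacter_linear θ))
  have hfixT : ∀ s ∈ T, ∀ y : P, θ (MulAut.conjNormal s⁻¹ y) = θ y := fun s hs y => by
    have h1 := congrFun ((mem_inertia P).1 (inv_mem hs : s⁻¹ ∈ T)) y
    rw [conjNormFun_eq] at h1
    exact Units.ext h1
  obtain ⟨s, hsT, hsP, hsp⟩ : ∃ s ∈ T, s ∉ P ∧ s ^ p ∈ P := by
    have h1 : p ∣ P.index := by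
      by_contra h
      apply hsyl
      rw [← P.card_mul_index, Nat.factorization_mul Nat.card_pos.ne' Subgroup.index_ne_zero_of_finite,
        Finsupp.add_apply, Nat.factorization_eq_zero_of_not_dvd h, add_zero]
    rw [← Subgroup.relIndex_mul_index hPT] at h1
    have h2 : p ∣ P.relIndex T := by
      refine (hp.out.dvd_mul.1 h1).resolve_right fun h => ?_
      rw [hTi] at h
      have := (Nat.dvd_add_iff_right h).2 (by rw [Nat.sub_add_cancel (by omega : 1 ≤ N)]; exact hpN : p ∣ (N - 1) + 1)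
      exact hp.out.not_dvd_one this
    rw [Subgroup.relIndex, Subgroup.index] at h2
    obtain ⟨q, hq⟩ := exists_prime_orderOf_dvd_card' p h2
    obtain ⟨⟨s, hs⟩, rfl⟩ := QuotientGroup.mk_surjective q
    refine ⟨s, hs, fun h => ?_, ?_⟩
    · rw [(QuotientGroup.eq_one_iff _).2 (Subgroup.mem_subgroupOf.2 h), orderOf_one] at hq
      exact hp.out.ne_one hq.symm
    · have h3 := pow_orderOf_eq_one (((⟨s, hs⟩ : T) : T ⧸ P.subgroupOf T))
      rw [hq, ← QuotientGroup.mk_pow, QuotientGroup.eq_one_iff, Subgroup.mem_subgroupOf] at h3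
      simpa using h3
  have hspow : ∀ y : P, p ∣ orderOf (s * (y : G)) := by
    intro y
    have h1 : ((s * (y : G)) ^ p) ∈ P := by
      rw [← QuotientGroup.eq_one_iff, QuotientGroup.mk_pow, QuotientGroup.mk_mul,
        (QuotientGroup.eq_one_iff (y : G)).2 y.2, mul_one, ← QuotientGroup.mk_pow, QuotientGroup.eq_one_iff]
      exact hsp
    have h2 : s * (y : G) ∉ P := fun h => hsP ((Subgroup.mul_mem_cancel_right P y.2).1 h)
    by_contra h
    obtain ⟨j, hj⟩ := (IsPGroup.iff_orderOf.1 hPp) ⟨_, h1⟩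
    rw [← Subgroup.orderOf_coe] at hj
    have h3 : orderOf ((s * (y : G)) ^ p) = orderOf (s * (y : G)) :=
      Nat.Coprime.orderOf_pow ((Nat.Prime.coprime_iff_not_dvd hp.out).2 h).symm
    rw [h3] at hj
    rcases j with _ | j
    · rw [pow_zero, orderOf_eq_one_iff] at hj
      exact h2 (hj ▸ one_mem P)
    · exact h (hj ▸ dvd_pow_self p (Nat.succ_ne_zero j))
  have hsC : s ∉ C := by
    intro h
    rw [hC] at h
    obtain ⟨y, hy, z, hz, e⟩ := Subgroup.mem_sup_of_normal_right.1 h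
    have hzp : z ^ p ∈ P := by
      have : z ^ p = (y ^ p)⁻¹ * s ^ p := by
        rw [← e, (show Commute y z from (Subgroup.mem_center_iff.1 hz y)).mul_pow, inv_mul_cancel_left]
      rw [this]; exact mul_mem (inv_mem (pow_mem hy p)) hsp
    have hzp1 : z ^ p = 1 := by
      have : z ^ p ∈ P ⊓ Subgroup.center G := ⟨hzp, pow_mem hz p⟩
      rwa [hPZ, Subgroup.mem_bot] at this
    obtain ⟨j, -, hj⟩ := (Nat.dvd_prime_pow hp.out).1
      (by rw [pow_one]; exact orderOf_dvd_of_pow_eq_one hzp1 : orderOf z ∣ p ^ 1)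
    exact hsP (e ▸ mul_mem hy (mem_pCore_of_central hz hj))
  -- exactly one nontrivial character is fixed
  let σ : (P →* ℂˣ) → (P →* ℂˣ) := fun ψ => ψ.comp (MulAut.conjNormal s⁻¹ : MulAut P).toMonoidHom
  have hσ : ∀ ψ, σ ψ = ψ ↔ ∀ y : P, ψ (MulAut.conjNormal s⁻¹ y) = ψ y := fun ψ => MonoidHom.ext_iff
  have hfθ : σ θ = θ := (hσ θ).2 (hfixT s hsT)
  have huniq : ∀ ψ, σ ψ = ψ → ψ ≠ 1 → ψ = θ := by
    have h1 := hcount s
    rw [Finset.sum_congr rfl (g := fun _ => (1 : ℝ)) (fun y _ => by rw [hnorm _ (hspow y), one_pow]),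
      Finset.sum_const, Finset.card_univ, ← Nat.card_eq_fintype_card, ← hN, nsmul_eq_mul] at h1
    have h2 := mul_left_cancel₀ (by exact_mod_cast (show N ≠ 0 by omega)) h1
    have h3 := Nat.cast_eq_one.1 h2.symm
    obtain ⟨ψ₀, hψ₀⟩ := Finset.card_eq_one.1 h3
    intro ψ h h'
    have m1 : ψ ∈ ({ψ₀} : Finset _) := hψ₀ ▸ Finset.mem_filter.2 ⟨Finset.mem_univ _, h', (hσ ψ).1 h⟩
    have m2 : θ ∈ ({ψ₀} : Finset _) := hψ₀ ▸ Finset.mem_filter.2 ⟨Finset.mem_univ _, hθ, (hσ θ).1 hfθ⟩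
    rw [Finset.mem_singleton] at m1 m2
    rw [m1, m2]
  have hhomp : ∀ ψ : P →* ℂˣ, ψ ^ p = 1 := fun ψ => MonoidHom.ext fun y => by
    rw [MonoidHom.pow_apply, ← map_pow, show y ^ p = 1 from Subtype.ext (hexp y y.2), map_one,
      MonoidHom.one_apply]
  have hp2 : p = 2 := by
    have hfix2 : σ (θ * θ) = θ * θ := by
      conv_rhs => rw [← hfθ]
      rfl
    have hθθ : θ * θ = 1 := by
      by_contra h
      exact hθ (mul_eq_left.1 (huniq _ hfix2 h))
    have h2 : orderOf θ = 2 := orderOf_eq_prime ((sq θ).trans hθθ) hθ (hp := ⟨Nat.prime_two⟩)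
    have h3 := orderOf_dvd_of_pow_eq_one (x := θ) (n := p) (hhomp θ)
    rw [h2] at h3
    exact ((Nat.prime_dvd_prime_iff_eq Nat.prime_two hp.out).1 h3).symm
  subst hp2
  have hN4 : N = 4 := by
    have hσσ : ∀ ψ, σ (σ ψ) = ψ := fun ψ => MonoidHom.ext fun y => by
      show ψ (MulAut.conjNormal s⁻¹ (MulAut.conjNormal s⁻¹ y)) = ψ y
      congr 1
      refine Subtype.ext ?_
      simp only [MulAut.conjNormal_apply, inv_inv]
      have h := congrArg Subtype.val (hab y ⟨s ^ 2, hsp⟩)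
      simp only [Subgroup.coe_mul] at h
      calc s⁻¹ * (s⁻¹ * y * s) * s = (s ^ 2)⁻¹ * ((y : G) * s ^ 2) := by rw [sq]; group
        _ = y := by rw [h]; group
    have hinv : ∀ ψ : P →* ℂˣ, ψ * ψ = 1 := fun ψ => (sq ψ).symm.trans (hhomp ψ)
    have hτ : ∀ ψ, ψ ≠ 1 → ψ ≠ θ → ψ * σ ψ = θ := by
      intro ψ h1 h2
      have hf : σ (ψ * σ ψ) = ψ * σ ψ := by
        show σ ψ * σ (σ ψ) = _
        rw [hσσ, mul_comm (σ ψ) ψ]
      refine huniq _ hf fun e => h2 (huniq ψ ?_ h1)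
      calc σ ψ = ψ * ψ * σ ψ := by rw [hinv, one_mul (σ ψ)]
        _ = ψ := by rw [mul_assoc ψ ψ (σ ψ), e, mul_one ψ]
    obtain ⟨ψa, hψa⟩ : ∃ ψ : P →* ℂˣ, ψ ∉ ({1, θ} : Finset _) := by
      by_contra h
      push Not at h
      have := Finset.card_le_card (fun x _ => h x : (Finset.univ : Finset (P →* ℂˣ)) ⊆ {1, θ})
      rw [Finset.card_univ, hcardhom] at this
      have : ({1, θ} : Finset (P →* ℂˣ)).card ≤ 2 := Finset.card_le_two
      omega
    simp only [Finset.mem_insert, Finset.mem_singleton, not_or] at hψa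
    have hall : (Finset.univ : Finset (P →* ℂˣ)) ⊆ {1, θ, ψa, ψa * θ} := by
      intro ψ _
      simp only [Finset.mem_insert, Finset.mem_singleton]
      by_cases h1 : ψ = 1
      · exact Or.inl h1
      by_cases h2 : ψ = θ
      · exact Or.inr (Or.inl h2)
      refine Or.inr (Or.inr ?_)
      have hf : σ (ψa * ψ) = ψa * ψ := by
        show σ ψa * σ ψ = ψa * ψ
        have ea : σ ψa = ψa * θ := by
          rw [← hτ ψa hψa.1 hψa.2, ← mul_assoc ψa ψa (σ ψa), hinv, one_mul (σ ψa)]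
        have eb : σ ψ = ψ * θ := by rw [← hτ ψ h1 h2, ← mul_assoc ψ ψ (σ ψ), hinv, one_mul (σ ψ)]
        rw [ea, eb, mul_mul_mul_comm ψa θ ψ θ, hinv θ, mul_one (ψa * ψ)]
      by_cases h3 : ψa * ψ = 1
      · left
        calc ψ = ψa * ψa * ψ := by rw [hinv, one_mul ψ]
          _ = ψa := by rw [mul_assoc ψa ψa ψ, h3, mul_one ψa]
      · right
        rw [← huniq _ hf h3, ← mul_assoc ψa ψa ψ, hinv, one_mul ψ]
    have := Finset.card_le_card hall
    rw [Finset.card_univ, hcardhom] at this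
    have h4 : ({1, θ, ψa, ψa * θ} : Finset (P →* ℂˣ)).card ≤ 4 := Finset.card_le_four
    rcases Nat.lt_or_ge n 2 with hn' | hn'
    · rw [show n = 1 by omega, pow_one] at hn; omega
    · have h5 : 2 ^ 2 ≤ 2 ^ n := Nat.pow_le_pow_right (by norm_num) hn'
      omega
  have hexp2 : ∀ y ∈ P, y * y = 1 := fun y hy => by rw [← sq]; exact hexp y hy
  refine ⟨rfl, ?_, ?_⟩
  · rw [Nat.odd_iff, ← Nat.two_dvd_ne_zero]
    intro h
    obtain ⟨z, hz⟩ := exists_prime_orderOf_dvd_card' 2 h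
    rw [← Subgroup.orderOf_coe] at hz
    have : (z : G) ∈ P ⊓ Subgroup.center G :=
      ⟨mem_pCore_of_central z.2 (j := 1) (by rw [hz, pow_one]), z.2⟩
    rw [hPZ, Subgroup.mem_bot] at this
    rw [this, orderOf_one] at hz
    norm_num at hz
  · haveI hCn : C.Normal := ⟨fun c hc g => Subgroup.mem_centralizer_iff.2 fun v hv => by
      have h := Subgroup.mem_centralizer_iff.1 hc (g⁻¹ * v * g)
        (by simpa using (inferInstance : P.Normal).conj_mem v hv g⁻¹)
      calc v * (g * c * g⁻¹) = g * ((g⁻¹ * v * g) * c) * g⁻¹ := by group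
        _ = g * (c * (g⁻¹ * v * g)) * g⁻¹ := by rw [h]
        _ = (g * c * g⁻¹) * v := by group⟩
    have hCT : C ≤ T := fun c hc => (mem_inertia P).2 (by
      rw [conjNormFun_eq]
      funext y
      congr 2
      have := hCfix c⁻¹ (inv_mem hc) y
      rwa [inv_inv] at this)
    have h3 : 3 ∣ C.index := by
      have := Subgroup.index_dvd_of_le hCT
      rwa [hTi, hN4] at this
    rw [Subgroup.index] at h3
    obtain ⟨q, hq⟩ := exists_prime_orderOf_dvd_card' (hp := ⟨Nat.prime_three⟩) 3 h3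
    obtain ⟨x, rfl⟩ := QuotientGroup.mk_surjective q
    refine exists_s4_complement P hN4 hexp2 hC hPZ (x := x) (fun h => ?_) ?_ hsC hsp
    · rw [(QuotientGroup.eq_one_iff _).2 h, orderOf_one] at hq
      norm_num at hq
    · rw [← QuotientGroup.eq_one_iff, QuotientGroup.mk_pow, ← hq, pow_orderOf_eq_one]

end CfsgLib.RootOnSingular
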