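import Cfsg.Agent.Lib.CharTheory.Integral
import Cfsg.Agent.Lib.CharTheory.Linear

/-!
# Fourier coefficients of a character along a coset of an abelian section
-/

namespace CfsgLib.RootOnSingular

open Cfsg CfsgLib.CharTheory
open scoped ComplexConjugate

set_option autoImplicit false

universe u

variable {G : Type u} [Group G] [Finite G]

theorem hom_norm {P : Type u} [Group P] [Finite P] (ψ : P →* ℂˣ) (y : P) : ‖(ψ y : ℂ)‖ = 1 :=
  Complex.norm_eq_one_of_pow_eq_one
    (by rw [← Units.val_pow_eq_pow_val, ← map_pow, pow_orderOf_eq_one, map_one, Units.val_one])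
    (orderOf_pos y).ne'

/-- If `ψ` is fixed by `c` and has multiplicity one in `χ`, then the coefficient of `ψ` on the
coset of `c` has norm one; if it has multiplicity zero, the coefficient vanishes. -/
theorem coeff_coset {χ : G → ℂ} (hχ : IsCharacter G χ) (P : Subgroup G) [Fintype P] (ψ : P →* ℂˣ)
    (c : G) :
    ((classInner (fun y : P => χ y) (fun y => (ψ y : ℂ)) = 0) →
      classInner (fun y : P => χ (c * y)) (fun y => (ψ y : ℂ)) = 0) ∧
    ((classInner (fun y : P => χ y) (fun y => (ψ y : ℂ)) = 1) →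
      (∀ y : P, ∃ y' : P, (y : G) * c = c * y' ∧ ψ y' = ψ y) →
      ‖classInner (fun y : P => χ (c * y)) (fun y => (ψ y : ℂ))‖ = 1) := by
  classical
  obtain ⟨n, ρ, rfl⟩ := hχ
  let σ : Representation ℂ P (Fin n → ℂ) :=
    { toFun := fun y => conj (ψ y : ℂ) • ρ y
      map_one' := by simp
      map_mul' := fun a b => by
        simp only [map_mul, Units.val_mul, Subgroup.coe_mul]
        rw [smul_mul_smul_comm] }
  have hσ : ∀ (y : P) v, σ y v = conj (ψ y : ℂ) • ρ y v := fun y v => rfl
  haveI : Invertible (Nat.card P : ℂ) := invertibleOfNonzero (Nat.cast_ne_zero.2 Nat.card_pos.ne')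
  haveI : Invertible (Fintype.card P : ℂ) := invertibleOfNonzero (Nat.cast_ne_zero.2 Fintype.card_ne_zero)
  have hdim : classInner (fun y : P => ρ.character y) (fun y => (ψ y : ℂ)) =
      (Module.finrank ℂ σ.invariants : ℂ) := by
    rw [← σ.card_inv_mul_sum_char_eq_finrank]
    simp only [classInner]
    congr 1
    refine Finset.sum_congr rfl fun y _ => ?_
    show _ = LinearMap.trace ℂ _ (conj (ψ y : ℂ) • ρ y)
    rw [map_smul, smul_eq_mul, mul_comm]
    rfl
  set E := σ.averageMap with hE
  have hEsum : E = (Nat.card P : ℂ)⁻¹ • ∑ y : P, σ y := by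
    rw [hE]
    simp [Representation.averageMap, GroupAlgebra.average, map_sum, map_smul, Nat.card_eq_fintype_card]
  have hcoeff : classInner (fun y : P => ρ.character (c * y)) (fun y => (ψ y : ℂ)) =
      LinearMap.trace ℂ _ (ρ c * E) := by
    rw [hEsum, mul_smul_comm, map_smul, smul_eq_mul, Finset.mul_sum, map_sum]
    simp only [classInner]
    congr 1
    refine Finset.sum_congr rfl fun y _ => ?_
    show _ = LinearMap.trace ℂ _ (ρ c * (conj (ψ y : ℂ) • ρ y))
    rw [mul_smul_comm, map_smul, smul_eq_mul, mul_comm, ← map_mul]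
    rfl
  refine ⟨fun h0 => ?_, fun h1 hc => ?_⟩
  · rw [hdim, Nat.cast_eq_zero, Submodule.finrank_eq_zero] at h0
    have hE0 : E = 0 := LinearMap.ext fun v => by
      have := σ.averageMap_invariant v
      rw [h0, Submodule.mem_bot] at this
      exact this
    rw [hcoeff, hE0, mul_zero, map_zero]
  · rw [hdim, Nat.cast_eq_one] at h1
    obtain ⟨⟨v, hv⟩, hv0, hspan⟩ := finrank_eq_one_iff'.1 h1
    have hv0' : v ≠ 0 := fun e => hv0 (Subtype.ext e)
    have hcv : ρ c v ∈ σ.invariants := by
      rw [Representation.mem_invariants]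
      intro y
      obtain ⟨y', hy', hψ⟩ := hc y
      have h2 : conj (ψ y' : ℂ) • ρ y' v = v := (Representation.mem_invariants σ v).1 hv y'
      rw [hσ]
      have h3 : ρ (y : G) (ρ c v) = ρ c (ρ (y' : G) v) := by
        rw [← Module.End.mul_apply, ← map_mul, hy', map_mul, Module.End.mul_apply]
      rw [h3, ← map_smul, ← hψ, h2]
    obtain ⟨ω, hω⟩ := hspan ⟨ρ c v, hcv⟩
    replace hω : ω • v = ρ c v := congrArg Subtype.val hω
    have hpow : ∀ k : ℕ, (ρ c ^ k) v = ω ^ k • v := fun k => by
      induction k with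
      | zero => simp
      | succ k ih =>
        rw [pow_succ', Module.End.mul_apply, ih, map_smul, ← hω, smul_smul, pow_succ]
    have hω1 : ‖ω‖ = 1 := by
      refine Complex.norm_eq_one_of_pow_eq_one (n := orderOf c) ?_ (orderOf_pos c).ne'
      have := hpow (orderOf c)
      rw [← map_pow, pow_orderOf_eq_one, map_one, Module.End.one_apply] at this
      have h3 : (1 - ω ^ orderOf c) • v = 0 := by
        rw [sub_smul, one_smul, ← this, sub_self]
      rw [smul_eq_zero, or_iff_left hv0', sub_eq_zero] at h3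
      exact h3.symm
    have hcomp : ρ c * E = ω • E := LinearMap.ext fun x => by
      obtain ⟨a, ha⟩ := hspan ⟨E x, σ.averageMap_invariant x⟩
      replace ha : a • v = E x := congrArg Subtype.val ha
      rw [Module.End.mul_apply, LinearMap.smul_apply, ← ha, map_smul, ← hω, smul_comm]
    rw [hcoeff, hcomp, map_smul, hE, σ.isProj_averageMap.trace, h1, Nat.cast_one, smul_eq_mul, mul_one, hω1]

/-- A coefficient along a coset vanishes unless the linear character is fixed. -/
theorem coeff_eq_zero_of_not_fixed {χ : G → ℂ} (hχ : IsClassFunction G χ) (P : Subgroup G)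
    [Fintype P] (ψ : P →* ℂˣ) (c : G) (x x' : P) (hxx : (x : G) * c = c * x') (hne : ψ x' ≠ ψ x) :
    classInner (fun y : P => χ (c * y)) (fun y => (ψ y : ℂ)) = 0 := by
  classical
  set F : P → ℂ := fun y => χ (c * y) with hF
  have hinv : ∀ y : P, F (x' * y * x⁻¹) = F y := fun y => by
    have := hχ (c * (y : G)) (x : G)
    simp only [hF, Subgroup.coe_mul, Subgroup.coe_inv]
    rw [← this]
    congr 1
    rw [← mul_assoc (x : G), hxx]
    group
  have h1 : classInner F (fun y => (ψ y : ℂ)) =
      conj ((ψ x' : ℂ) * (ψ x⁻¹ : ℂ)) * classInner F (fun y => (ψ y : ℂ)) := by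
    simp only [classInner]
    rw [mul_left_comm]
    congr 1
    rw [Finset.mul_sum]
    refine (Fintype.sum_equiv ((Equiv.mulLeft x').trans (Equiv.mulRight x⁻¹)) _ _ fun y => ?_).symm
    simp only [Equiv.trans_apply, Equiv.coe_mulLeft, Equiv.coe_mulRight, hinv, map_mul,
      Units.val_mul]
    ring
  by_contra hne'
  have h2 := mul_right_cancel₀ hne' ((one_mul _).trans h1)
  have h3 : ψ x' * ψ x⁻¹ = 1 := Units.ext (by
    rw [Units.val_mul, Units.val_one]
    have := congrArg conj h2
    rw [Complex.conj_conj, map_one] at this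
    exact this.symm)
  rw [map_inv, mul_inv_eq_one] at h3
  exact hne h3

end CfsgLib.RootOnSingular
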